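import Groth.Agent.PicZHilbLib.Coeff

/-!
# Degrees and classes when the Picard group is infinite cyclic
-/

set_option autoImplicit false
set_option linter.style.haveILetI false
universe u

open CategoryTheory CategoryTheory.Limits AlgebraicGeometry
open HilbPolyLib

noncomputable section

namespace PicZHilbLib

variable {k : Type u} [Field k] {Y : Scheme.{u}} [Y.Over (Spec (CommRingCat.of k))]
  [IsProper (Y ↘ Spec (CommRingCat.of k))] [PicGrp.Law Y]

omit [Y.Over (Spec (CommRingCat.of k))] [IsProper (Y ↘ Spec (CommRingCat.of k))] in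
theorem nonempty_iso_pow {A B : Y.Modules} (hA : PicF.IsInvertible A) (hB : PicF.IsInvertible B) {p q : ℕ}
    (h : PicGrp.cls A hA ^ p = PicGrp.cls B hB ^ q) :
    Nonempty (CohB1.tensorPow A p ≅ CohB1.tensorPow B q) := by
  have h' := congrArg Subtype.val h
  rw [PicGrp.cls_pow_val, PicGrp.cls_pow_val] at h'
  exact (PicGrp.cl_eq_cl_iff _ _).1 h'

omit [Y.Over (Spec (CommRingCat.of k))] [IsProper (Y ↘ Spec (CommRingCat.of k))] in
theorem nonempty_iso_unit {A B : Y.Modules} (hA : PicF.IsInvertible A) (hB : PicF.IsInvertible B) {p q : ℕ}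
    (h : PicGrp.cls A hA ^ p * PicGrp.cls B hB ^ q = 1) :
    Nonempty (Coh.structureModule Y ≅ CohB1.tensorMod (CohB1.tensorPow A p) (CohB1.tensorPow B q)) := by
  have h' := congrArg Subtype.val h
  rw [PicGrp.mul_val, PicGrp.cls_pow_val, PicGrp.cls_pow_val, PicGrp.mulCl_cl, PicGrp.one_val] at h'
  exact (PicGrp.cl_eq_cl_iff _ _).1 h'.symm

/-- The degree of an invertible module against the integer of its class. -/
theorem class_mul_top {L M : Y.Modules} (hL : PicF.IsInvertible L) (hM : PicF.IsInvertible M) (e : ℕ)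
    (hd : topologicalKrullDim Y ≤ ((e + 1 : ℕ) : WithBot ℕ∞))
    (ε : PicLoc.PicSet Y ≃* Multiplicative ℤ) {P₀ PM : Polynomial ℚ}
    (h₀ : ShStab.IsHilbPoly k Y L (Coh.structureModule Y) P₀) (hdeg : P₀.natDegree ≤ e + 1)
    (hPM : ShStab.IsHilbPoly k Y L M PM) :
    ((ε (PicGrp.cls M hM)).toAdd : ℚ) * ((e + 1) * P₀.coeff (e + 1)) =
      ((ε (PicGrp.cls L hL)).toAdd : ℚ) * (PM.coeff e - P₀.coeff e) := by
  haveI := CurvLib.isNoetherian k (X := Y)
  obtain ⟨c₀, c₁, hc⟩ := exists_affine (k := k) hL hM e hd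
  have e0 : P₀.coeff e = c₀ := by rw [hc 0 P₀ h₀]; simp
  have e1 : PM.coeff e = c₀ + c₁ := by
    have := hc 1 PM (isHilbPoly_congr (HilbPolyLib.unitLeft M).symm hPM)
    simpa using this
  rw [e1, e0, add_sub_cancel_left]
  set a := (ε (PicGrp.cls M hM)).toAdd with ha
  set b := (ε (PicGrp.cls L hL)).toAdd with hb
  have hpow : ∀ (p q : ℕ), PicGrp.cls M hM ^ p = PicGrp.cls L hL ^ q → (p : ℚ) * c₁ = q * ((e + 1) * P₀.coeff (e + 1)) := by
    intro p q h
    obtain ⟨i⟩ := nonempty_iso_pow hM hL h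
    obtain ⟨R, hR⟩ := exists_isHilbPoly' (k := k) hL (F := CohB1.tensorPow M p)
      (CurvLib.isCoh_of_isInvertible (AmpleThLib.tensorPow_isInvertible hM p))
    have h1 := isHilbPoly_shift (k := k) q (F := CohB1.tensorPow M p) (i ≪≫ (HilbPolyLib.unitLeft _).symm) h₀
    have h2 := hc p _ h1
    rw [coeff_comp_shift _ _ hdeg, e0] at h2
    linarith
  have hneg : ∀ (p q : ℕ), PicGrp.cls M hM ^ p * PicGrp.cls L hL ^ q = 1 → (p : ℚ) * c₁ = -(q * ((e + 1) * P₀.coeff (e + 1))) := by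
    intro p q h
    obtain ⟨i⟩ := nonempty_iso_unit hM hL h
    obtain ⟨R, hR⟩ := exists_isHilbPoly' (k := k) hL (F := CohB1.tensorPow M p)
      (CurvLib.isCoh_of_isInvertible (AmpleThLib.tensorPow_isInvertible hM p))
    have h1 := isHilbPoly_shift (k := k) q (F := Coh.structureModule Y) i hR
    have h2 := isHilbPoly_unique h₀ h1
    have hRd : R.natDegree ≤ e + 1 := by
      have := congrArg Polynomial.natDegree h2
      rw [Polynomial.natDegree_comp, Polynomial.natDegree_X_add_C, mul_one] at this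
      omega
    have hrtop : P₀.coeff (e + 1) = R.coeff (e + 1) := by
      rw [h2, ← Polynomial.taylor_apply, Polynomial.taylor_coeff]
      have hh : (Polynomial.hasseDeriv (e + 1) R).natDegree < 1 := by
        refine lt_of_le_of_lt (Polynomial.natDegree_hasseDeriv_le R _) ?_
        omega
      rw [Polynomial.eval_eq_sum_range' hh, Finset.sum_range_one, Polynomial.hasseDeriv_coeff]
      simp
    have h3 : P₀.coeff e = (R.comp (Polynomial.X + Polynomial.C (q : ℚ))).coeff e := congrArg (fun t => t.coeff e) h2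
    rw [coeff_comp_shift _ _ hRd, hc p R hR, e0, ← hrtop] at h3
    linarith
  -- raise to powers clearing signs
  have hgen : ∀ p q : ℕ, (PicGrp.cls M hM ^ p = PicGrp.cls L hL ^ q ↔ (p : ℤ) * a = q * b) ∧
      (PicGrp.cls M hM ^ p * PicGrp.cls L hL ^ q = 1 ↔ (p : ℤ) * a + q * b = 0) := by
    intro p q
    refine ⟨?_, ?_⟩
    · rw [← ε.injective.eq_iff, map_pow, map_pow, ← Multiplicative.toAdd.injective.eq_iff, toAdd_pow, toAdd_pow,
        nsmul_eq_mul, nsmul_eq_mul]
    · rw [← ε.injective.eq_iff, map_mul, map_pow, map_pow, map_one, ← Multiplicative.toAdd.injective.eq_iff,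
        toAdd_mul, toAdd_pow, toAdd_pow, toAdd_one, nsmul_eq_mul, nsmul_eq_mul]
  rcases eq_or_ne b 0 with hb0 | hb0
  · -- the class of the polarisation is trivial
    have hl : PicGrp.cls L hL ^ 1 = PicGrp.cls M hM ^ 0 := by
      rw [pow_one, pow_zero]
      exact ε.injective (Multiplicative.toAdd.injective (by rw [map_one, toAdd_one]; exact hb0))
    have h := hpow 0 1 hl.symm
    simp only [Nat.cast_zero, zero_mul, Nat.cast_one, one_mul] at h
    rw [hb0, ← h]
    simp
  have key : ∀ (p : ℕ) (s : ℚ), (p : ℚ) * c₁ = s * ((e + 1) * P₀.coeff (e + 1)) → (p : ℚ) * (a : ℚ) = s * (b : ℚ) →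
      p ≠ 0 → (a : ℚ) * ((e + 1) * P₀.coeff (e + 1)) = (b : ℚ) * c₁ := by
    intro p s h1 h2 hp
    have hp' : (p : ℚ) ≠ 0 := Nat.cast_ne_zero.mpr hp
    refine mul_left_cancel₀ hp' ?_
    rw [← mul_assoc, h2, mul_left_comm (p : ℚ), h1]
    ring
  rcases le_or_gt 0 (a * b) with hab | hab
  · have hz : (b.natAbs : ℤ) * a = (a.natAbs : ℤ) * b := by
      rcases mul_nonneg_iff.1 hab with ⟨h1, h2⟩ | ⟨h1, h2⟩
      · rw [Int.natAbs_of_nonneg h1, Int.natAbs_of_nonneg h2]; ring
      · rw [Int.ofNat_natAbs_of_nonpos h1, Int.ofNat_natAbs_of_nonpos h2]; ring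
    have hz' : (b.natAbs : ℚ) * (a : ℚ) = (a.natAbs : ℚ) * (b : ℚ) := by
      rw [← Int.cast_natCast (n := b.natAbs), ← Int.cast_natCast (n := a.natAbs), ← Int.cast_mul, ← Int.cast_mul, hz]
    exact key b.natAbs (a.natAbs : ℚ) (hpow _ _ ((hgen _ _).1.2 hz)) hz' (Int.natAbs_ne_zero.2 hb0)
  · have hz : (b.natAbs : ℤ) * a + (a.natAbs : ℤ) * b = 0 := by
      rcases mul_neg_iff.1 hab with ⟨h1, h2⟩ | ⟨h1, h2⟩
      · rw [Int.natAbs_of_nonneg h1.le, Int.ofNat_natAbs_of_nonpos h2.le]; ring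
      · rw [Int.ofNat_natAbs_of_nonpos h1.le, Int.natAbs_of_nonneg h2.le]; ring
    have hz' : (b.natAbs : ℚ) * (a : ℚ) + (a.natAbs : ℚ) * (b : ℚ) = 0 := by
      rw [← Int.cast_natCast (n := b.natAbs), ← Int.cast_natCast (n := a.natAbs), ← Int.cast_mul, ← Int.cast_mul,
        ← Int.cast_add, hz, Int.cast_zero]
    exact key b.natAbs (-(a.natAbs : ℚ)) (by rw [neg_mul]; exact hneg _ _ ((hgen _ _).2.2 hz)) (by linarith)
      (Int.natAbs_ne_zero.2 hb0)

end PicZHilbLib

end
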