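import Groth.Agent.HilbPolyLib.IntNum
import Groth.Agent.HilbPolyLib.Basic
import Groth.Agent.S3230
import Groth.Prelude.Def_PicGrp
import Mathlib.Algebra.Polynomial.Taylor

/-!
# The second coefficient of Hilbert polynomials is additive on invertible modules
-/

set_option autoImplicit false
set_option linter.style.haveILetI false
universe u

open CategoryTheory CategoryTheory.Limits AlgebraicGeometry
open HilbPolyLib

noncomputable section

namespace PicZHilbLib

/-- The next to top coefficient of a bivariate polynomial is affine in the first variable. -/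
theorem exists_affine_coeff (P : MvPolynomial (Fin 2) ℚ) (e : ℕ) (hP : P.totalDegree ≤ e + 1) :
    ∃ c₀ c₁ : ℚ, ∀ j : ℕ,
      (MvPolynomial.eval₂ Polynomial.C ![Polynomial.C (j : ℚ), Polynomial.X] P).coeff e = c₀ + j * c₁ := by
  classical
  have key : ∀ s : Fin 2 →₀ ℕ, s ∈ P.support → ∃ c₀ c₁ : ℚ, ∀ j : ℕ,
      (MvPolynomial.eval₂ Polynomial.C ![Polynomial.C (j : ℚ), Polynomial.X]
        (MvPolynomial.monomial s (P.coeff s))).coeff e = c₀ + j * c₁ := by
    intro s hs
    have hdeg : s 0 + s 1 ≤ e + 1 := by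
      have h := (MvPolynomial.le_totalDegree hs).trans hP
      rw [Finsupp.sum_fintype _ _ (fun _ => rfl), Fin.sum_univ_two] at h
      exact h
    have he : ∀ j : ℕ, (MvPolynomial.eval₂ Polynomial.C ![Polynomial.C (j : ℚ), Polynomial.X]
        (MvPolynomial.monomial s (P.coeff s))).coeff e =
          if e = s 1 then P.coeff s * (j : ℚ) ^ s 0 else 0 := fun j => by
      rw [MvPolynomial.eval₂_monomial, Finsupp.prod_fintype _ _ (fun _ => pow_zero _), Fin.prod_univ_two]
      simp only [Matrix.cons_val_zero, Matrix.cons_val_one, Matrix.head_cons]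
      rw [← Polynomial.C_pow, ← mul_assoc, ← Polynomial.C_mul, Polynomial.coeff_C_mul, Polynomial.coeff_X_pow]
      split_ifs <;> simp
    by_cases h1 : e = s 1
    · rcases Nat.eq_zero_or_pos (s 0) with h0 | h0
      · exact ⟨P.coeff s, 0, fun j => by rw [he, if_pos h1, h0]; simp⟩
      · exact ⟨0, P.coeff s, fun j => by
          rw [he, if_pos h1, show s 0 = 1 by omega, pow_one, zero_add, mul_comm]⟩
    · exact ⟨0, 0, fun j => by rw [he, if_neg h1]; simp⟩
  choose c₀ c₁ hc using key
  refine ⟨∑ s ∈ P.support.attach, c₀ s.1 s.2, ∑ s ∈ P.support.attach, c₁ s.1 s.2, fun j => ?_⟩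
  conv_lhs => rw [P.as_sum, MvPolynomial.eval₂_sum, Polynomial.finsetSum_coeff, ← Finset.sum_attach]
  rw [Finset.mul_sum, ← Finset.sum_add_distrib]
  exact Finset.sum_congr rfl fun s _ => hc s.1 s.2 j

/-- The next to top coefficient after a translation of the variable. -/
theorem coeff_comp_shift (p : Polynomial ℚ) (e : ℕ) (hp : p.natDegree ≤ e + 1) (q : ℚ) :
    (p.comp (Polynomial.X + Polynomial.C q)).coeff e = p.coeff e + q * (e + 1) * p.coeff (e + 1) := by
  rw [← Polynomial.taylor_apply, Polynomial.taylor_coeff]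
  have hh : (Polynomial.hasseDeriv e p).natDegree < 2 := by
    refine lt_of_le_of_lt (Polynomial.natDegree_hasseDeriv_le p e) ?_
    omega
  rw [Polynomial.eval_eq_sum_range' hh, Finset.sum_range_succ, Finset.sum_range_one, Polynomial.hasseDeriv_coeff,
    Polynomial.hasseDeriv_coeff, zero_add, pow_zero, pow_one, Nat.choose_self, Nat.add_comm 1 e,
    Nat.choose_succ_self_right]
  push_cast
  ring

variable {k : Type u} [Field k] {X : Scheme.{u}} [X.Over (Spec (CommRingCat.of k))]
  [IsProper (X ↘ Spec (CommRingCat.of k))]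

/-- The Hilbert polynomials of the powers of an invertible module have affine next to top coefficient. -/
theorem exists_affine {L M : X.Modules} (hL : PicF.IsInvertible L) (hM : PicF.IsInvertible M) (e : ℕ)
    (hd : topologicalKrullDim X ≤ ((e + 1 : ℕ) : WithBot ℕ∞)) :
    ∃ c₀ c₁ : ℚ, ∀ (j : ℕ) (P : Polynomial ℚ), ShStab.IsHilbPoly k X L (CohB1.tensorPow M j) P →
      P.coeff e = c₀ + j * c₁ := by
  haveI := CurvLib.isNoetherian k (X := X)
  have hO := DevissLib.isCoh_structureModule X
  obtain ⟨R, hR, hev⟩ := Groth.Agent.S3230.result k X (e + 1) hd ![M, L]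
    (fun i => by fin_cases i <;> assumption) (Coh.structureModule X) hO (e + 1)
    ((topologicalKrullDim_subspace_le X _).trans hd)
  obtain ⟨c₀, c₁, hc⟩ := exists_affine_coeff R e hR
  refine ⟨c₀, c₁, fun j P hP => ?_⟩
  rw [← hc j]
  refine congrArg (fun q : Polynomial ℚ => q.coeff e) (eq_of_eval_nat fun m => ?_)
  rw [← hP m]
  have h := hev ![j, m]
  rw [eulerCharLE_eq hd] at h
  let i₁ : CohB1.tensorMod (FGA.multiTwist ![M, L] ![j, m]) (Coh.structureModule X) ≅
      CohB1.tensorMod (CohB1.tensorPow M j) (CohB1.tensorPow L m) :=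
    HilbPolyLib.swapIso _ _ ≪≫ HilbPolyLib.unitLeft _ ≪≫ HilbPolyLib.congrRight (CohB1.tensorPow M j)
      (HilbPolyLib.swapIso _ _ ≪≫ HilbPolyLib.unitLeft (CohB1.tensorPow L m))
  rw [CurvLib.euler_congr (k := k) i₁] at h
  refine h.trans ?_
  rw [← Polynomial.coe_evalRingHom, MvPolynomial.eval₂_comp_left]
  show MvPolynomial.eval₂ (RingHom.id ℚ) _ R = _
  congr 1
  · ext c; simp
  · funext i; fin_cases i <;> simp

/-- Translation of a Hilbert polynomial by a power of the polarisation. -/
theorem isHilbPoly_shift {L : X.Modules} (q : ℕ) {E F : X.Modules}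
    (eF : F ≅ CohB1.tensorMod E (CohB1.tensorPow L q)) {P : Polynomial ℚ}
    (hP : ShStab.IsHilbPoly k X L E P) :
    ShStab.IsHilbPoly k X L F (P.comp (Polynomial.X + Polynomial.C (q : ℚ))) := fun m => by
  rw [Polynomial.eval_comp, Polynomial.eval_add, Polynomial.eval_X, Polynomial.eval_C, ← Nat.cast_add,
    ← hP (m + q)]
  obtain ⟨a⟩ : Nonempty (CohB1.tensorPow L (m + q) ≅ CohB1.tensorMod (CohB1.tensorPow L m) (CohB1.tensorPow L q)) := by
    clear hP eF
    induction q with
    | zero => exact ⟨(HilbPolyLib.unitLeft _).symm ≪≫ HilbPolyLib.swapIso _ _⟩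
    | succ q ih =>
      obtain ⟨i⟩ := ih
      exact ⟨HilbPolyLib.congrLeft i L ≪≫ HilbPolyLib.assocIso _ _ _⟩
  let i₂ : ShStab.twist X L F m ≅ ShStab.twist X L E (m + q) :=
    HilbPolyLib.congrLeft eF _ ≪≫ HilbPolyLib.assocIso _ _ _ ≪≫
      HilbPolyLib.congrRight E (HilbPolyLib.swapIso _ _ ≪≫ a.symm)
  rw [CurvLib.euler_congr (k := k) i₂]

end PicZHilbLib

end
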