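import Groth.Agent.PicZHilbLib.Class
import Groth.Agent.IdealPtLib.Exist
import Groth.Agent.ConnConstLib.Main
import Groth.Agent.StalkSpreadLib.Main
import Groth.Agent.S16491
import Groth.Agent.Ref1Lib.Ops
import Groth.Agent.RefHullLib.BigOpen
import Groth.Agent.FibDimLib.Formula
import Groth.Agent.GenusZeroLib.PointIdeal
import Groth.Agent.HurwitzLib.SmoothCurve
import Groth.Agent.CurveVBLib.Basic
import Groth.Agent.ParaFLib.Basic

/-!
# Torsion free modules of rank one with Hilbert polynomial lowered by a constant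
-/

set_option autoImplicit false
set_option linter.style.haveILetI false
set_option linter.unusedSectionVars false
set_option maxHeartbeats 1000000
universe u

open CategoryTheory CategoryTheory.Limits AlgebraicGeometry TopologicalSpace Opposite
open HilbPolyLib

noncomputable section

namespace PicZHilbLib

variable {K : Type u} [Field K] [IsAlgClosed K] {Y : Scheme.{u}} [Y.Over (Spec (CommRingCat.of K))]
  [IsIntegral Y] [Smooth (Y ↘ Spec (CommRingCat.of K))] [IsProper (Y ↘ Spec (CommRingCat.of K))]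

omit [IsIntegral Y] [Smooth (Y ↘ Spec (CommRingCat.of K))] [IsProper (Y ↘ Spec (CommRingCat.of K))] [IsAlgClosed K] in
theorem mono_tensor_right {A P Q : Y.Modules} [IsLocallyNoetherian Y] (hA : PicF.IsInvertible A) (φ : P ⟶ Q) [Mono φ] :
    ∃ ψ : CohB1.tensorMod A P ⟶ CohB1.tensorMod A Q, Mono ψ := by
  let S : ShortComplex Y.Modules := ShortComplex.mk φ (cokernel.π φ) (cokernel.condition φ)
  have hS : S.ShortExact :=
    { exact := ShortComplex.exact_cokernel φ, mono_f := inferInstanceAs (Mono φ)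
      epi_g := inferInstanceAs (Epi (cokernel.π φ)) }
  exact ⟨(S.map (CurvLib.tensorLeft' A)).f, (HilbPolyLib.shortExact_tensor hA hS).mono_f⟩

omit [IsIntegral Y] [Smooth (Y ↘ Spec (CommRingCat.of K))] [IsProper (Y ↘ Spec (CommRingCat.of K))] [IsAlgClosed K] in
/-- Powers of an invertible ideal embed into the structure module. -/
theorem exists_mono_pow [IsLocallyNoetherian Y] {I : Y.Modules} (hI : PicF.IsInvertible I)
    (q : I ⟶ Coh.structureModule Y) [Mono q] : ∀ n : ℕ,
    ∃ f : CohB1.tensorPow I n ⟶ Coh.structureModule Y, Mono f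
  | 0 => ⟨𝟙 (Coh.structureModule Y), (inferInstance : Mono (𝟙 (Coh.structureModule Y)))⟩
  | n + 1 => by
    obtain ⟨f, hf⟩ := exists_mono_pow hI q n
    obtain ⟨ψ, hψ⟩ := mono_tensor_right (AmpleThLib.tensorPow_isInvertible hI n) q
    let g := swapIso (CohB1.tensorPow I n) (Coh.structureModule Y) ≪≫ unitLeft (CohB1.tensorPow I n)
    have hg : Mono g.hom := IsIso.mono_of_iso _
    have h1 : Mono (ψ ≫ g.hom) := @mono_comp _ _ _ _ _ ψ hψ g.hom hg
    exact ⟨(ψ ≫ g.hom) ≫ f, @mono_comp _ _ _ _ _ (ψ ≫ g.hom) h1 f hf⟩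

theorem exists_dim (K : Type u) [Field K] (Y : Scheme.{u}) [Y.Over (Spec (CommRingCat.of K))]
    [IsIntegral Y] [IsProper (Y ↘ Spec (CommRingCat.of K))] : ∃ d : ℕ, topologicalKrullDim Y = (d : WithBot ℕ∞) := by
  obtain ⟨D, hD⟩ := HilbPolyLib.exists_dim_lt K (X := Y)
  cases hd : topologicalKrullDim Y with
  | bot =>
    rw [topologicalKrullDim, Order.krullDim_eq_bot_iff] at hd
    exact (hd.false ⟨closure {genericPoint Y}, isIrreducible_singleton.closure, isClosed_closure⟩).elim
  | coe a =>
    cases a with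
    | top => rw [hd] at hD; exact absurd hD (not_lt.2 (WithBot.coe_le_coe.2 le_top))
    | coe n => exact ⟨n, rfl⟩

/-- A torsion free rank one module with Hilbert polynomial lowered by a positive constant embeds into `O`. -/
theorem exists_mono {L : Y.Modules} (hLi : PicF.IsInvertible L) (hLa : CohB1.IsAmple L) [PicGrp.Law Y]
    (ε : PicLoc.PicSet Y ≃* Multiplicative ℤ) {ℓ : ℕ} {G : Y.Modules} (hGc : Coh.IsCoh G)
    (hGt : TorSh.IsTorsionFree G)
    (hGr : Module.finrank (Y.presheaf.stalk (genericPoint Y)) (G.presheaf.stalk (genericPoint Y)) = 1)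
    {P₀ : Polynomial ℚ} (h₀ : ShStab.IsHilbPoly K Y L (Coh.structureModule Y) P₀)
    (hG : ShStab.IsHilbPoly K Y L G (P₀ - Polynomial.C (ℓ : ℚ))) :
    ∃ φ : G ⟶ Coh.structureModule Y, Mono φ := by
  haveI := CurvLib.isNoetherian K (X := Y)
  have hreg : ∀ y : Y, IsRegularLocalRing (Y.presheaf.stalk y) := fun y => CurveVBLib.regular_stalk (k := K) y
  have hnorm : Pi1.IsNormalScheme Y := HurwitzLib.isNormalScheme_of_smooth (k := K)
  have hO := DevissLib.isCoh_structureModule Y
  haveI hGq : Coh.IsQCoh G := hGc.1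
  obtain ⟨d, hd⟩ := exists_dim K Y
  -- the dimension is positive
  obtain ⟨e, rfl⟩ : ∃ e, d = e + 1 := by
    refine Nat.exists_eq_add_one.2 (Nat.pos_of_ne_zero fun h0 => ?_)
    subst h0
    haveI : Subsingleton Y := ⟨fun a b => by
      have hpt : ∀ y : Y, y = genericPoint Y := fun y => by
        obtain ⟨z, hz, -⟩ : ∃ z, z ∈ closure ({y} : Set Y) ∧ True := ⟨y, subset_closure rfl, trivial⟩
        by_contra hne
        let s₀ : TopologicalSpace.IrreducibleCloseds Y :=
          ⟨closure {y}, isIrreducible_singleton.closure, isClosed_closure⟩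
        let s₁ : TopologicalSpace.IrreducibleCloseds Y :=
          ⟨closure {genericPoint Y}, isIrreducible_singleton.closure, isClosed_closure⟩
        have hle : s₀ < s₁ := by
          refine lt_of_le_of_ne ?_ ?_
          · show closure {y} ⊆ closure {genericPoint Y}
            rw [show closure {genericPoint Y} = Set.univ from genericPoint_spec Y]
            exact Set.subset_univ _
          · intro h
            have h' : closure ({y} : Set Y) = closure {genericPoint Y} := congrArg SetLike.coe h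
            exact hne ((specializes_iff_mem_closure.2 (h' ▸ subset_closure rfl : genericPoint Y ∈ closure ({y} : Set Y))).antisymm
              ((genericPoint_spec Y).specializes trivial)).eq
        have h1 : (1 : WithBot ℕ∞) ≤ topologicalKrullDim Y :=
          Order.one_le_krullDim_iff.2 ⟨s₀, s₁, hle⟩
        rw [hd] at h1
        exact absurd h1 (by decide)
      rw [hpt a, hpt b]⟩
    have htriv : ∀ A : Y.Modules, ∀ hA : PicF.IsInvertible A, PicGrp.cls A hA = 1 := fun A hA => by
      obtain ⟨i⟩ := ConnConstLib.pull_trivial_of_const (𝟙 Y) (c := genericPoint Y) (fun z => Subsingleton.elim _ _) hA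
      refine Subtype.ext ?_
      rw [PicGrp.cls_val, PicGrp.one_val, PicGrp.cl_eq_cl_iff]
      exact ⟨((Scheme.Modules.pullbackId Y).app A).symm ≪≫ i⟩
    obtain ⟨A, hA, h⟩ := PicGrp.exists_eq_cls (ε.symm (Multiplicative.ofAdd 1))
    have h1 := congrArg (fun t => (ε t).toAdd) h
    simp [htriv A hA] at h1
  have hdle : topologicalKrullDim Y ≤ ((e + 1 : ℕ) : WithBot ℕ∞) := hd.le
  -- the degree and the leading coefficient
  have hsupp : topologicalKrullDim (CohB1.support (Coh.structureModule Y)) = ((e + 1 : ℕ) : WithBot ℕ∞) := by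
    rw [AVAmpleLib.support_structureModule, ← hd]
    exact (Homeomorph.Set.univ Y).isHomeomorph.topologicalKrullDim_eq
  have hlead : P₀.coeff (e + 1) ≠ 0 := by
    have := HilbPolyLib.alpha_pos (k := K) hLa hO h₀ hsupp
    rw [StabCat.alpha] at this
    exact right_ne_zero_of_mul this.ne'
  have hdeg : P₀.natDegree ≤ e + 1 := by
    obtain ⟨P, hP, hP'⟩ := HilbPolyLib.exists_isHilbPoly (k := K) hLi hO (d := e + 2)
      (by rw [hsupp]; exact_mod_cast Nat.lt_succ_self (e + 1))
    rw [HilbPolyLib.isHilbPoly_unique h₀ hP']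
    refine Polynomial.natDegree_le_iff_degree_le.2 ?_
    rcases eq_or_ne P 0 with h0 | h0
    · rw [h0]; simp
    rw [Polynomial.degree_eq_natDegree h0] at hP ⊢
    have : P.natDegree < e + 2 := by exact_mod_cast hP
    exact_mod_cast Nat.lt_succ_iff.1 this
  -- the double dual
  let β := RefHull.bidualMap G
  have hdual := RefHullLib.isCoh_dual hGc
  have hMc : Coh.IsCoh (RefHull.ddual G) := RefHullLib.isCoh_dual hdual
  have hinj : ∀ x, Function.Injective (RefHull.stalkMapₗ β x) := fun x => by
    refine (injective_iff_map_eq_zero _).2 fun a ha => ?_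
    by_contra hne
    haveI : Module.Finite (Y.presheaf.stalk x) (G.presheaf.stalk x) := DepthLib.finite_stalk G hGc.2 x
    haveI : Module.IsTorsionFree (Y.presheaf.stalk x) (G.presheaf.stalk x) := hGt x
    obtain ⟨φ, hφ⟩ := IdealPtLib.exists_functional (R := Y.presheaf.stalk x) hne
    obtain ⟨u⟩ := RefHullLib.nonempty_stalk_unit Y x
    obtain ⟨θ, hθ⟩ := RefHullLib.evalStalk_surjective (G := Coh.structureModule Y)
      (QCohLib.isFP_of_isCoh G hGc) x (u.toLinearMap ∘ₗ φ)
    have h1 := RefHullLib.evalStalk_stalkMap_bidualMap G x a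
    rw [ha, map_zero] at h1
    have h2 : RefHull.bidualAt G x a θ = 0 := by rw [← h1]; rfl
    rw [RefHull.bidualAt_apply, hθ] at h2
    exact hφ (u.map_eq_zero_iff.1 h2)
  haveI : Mono β := CycK0Lib.mono_of_stalks β fun x => hinj x
  have hbij : ∀ x : Y, ¬ (2 : WithBot ℕ∞) ≤ ringKrullDim (Y.presheaf.stalk x) →
      Function.Bijective (RefHull.stalkMapₗ β x) := fun x hx => by
    refine (RefHullLib.bijective_stalk_bidual_iff hGc x).2 ?_
    haveI : Module.Finite (Y.presheaf.stalk x) (G.presheaf.stalk x) := DepthLib.finite_stalk G hGc.2 x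
    haveI : Module.IsTorsionFree (Y.presheaf.stalk x) (G.presheaf.stalk x) := hGt x
    haveI := RefHullLib.free_of_dim_le_one hnorm hGc hx
    show Module.IsReflexive _ _
    infer_instance
  have hη0 : ringKrullDim (Y.presheaf.stalk (genericPoint Y)) = 0 :=
    ringKrullDim_eq_zero_of_isField (Field.toIsField Y.functionField)
  have hηx : ¬ (2 : WithBot ℕ∞) ≤ ringKrullDim (Y.presheaf.stalk (genericPoint Y)) := by
    rw [hη0]; decide
  -- it is invertible
  have hM : PicF.IsInvertible (RefHull.ddual G) := by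
    refine Groth.Agent.S16491.result Y hreg _ hMc (Ref1Lib.isReflexive_dual' hdual) ?_
    haveI : Module.Finite (Y.presheaf.stalk (genericPoint Y)) (G.presheaf.stalk (genericPoint Y)) :=
      DepthLib.finite_stalk G hGc.2 _
    haveI : Module.IsTorsionFree (Y.presheaf.stalk (genericPoint Y)) (G.presheaf.stalk (genericPoint Y)) := hGt _
    haveI := RefHullLib.free_of_dim_le_one hnorm hGc hηx
    obtain ⟨u⟩ := RefHullLib.nonempty_stalk_unit Y (genericPoint Y)
    let e₁ : (RefHull.ddual G).presheaf.stalk (genericPoint Y) ≃ₗ[Y.presheaf.stalk (genericPoint Y)]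
        (Coh.structureModule Y).presheaf.stalk (genericPoint Y) :=
      (LinearEquiv.ofBijective _ (hbij _ hηx)).symm ≪≫ₗ (Module.finBasisOfFinrankEq _ _ hGr).equivFun ≪≫ₗ
        LinearEquiv.funUnique (Fin 1) (Y.presheaf.stalk (genericPoint Y)) _ ≪≫ₗ u
    obtain ⟨U, hU, -, ⟨i⟩⟩ := StalkSpreadLib.exists_iso_nhd hMc hO _ e₁ ⊤ trivial
    exact ⟨U, U.2.dense ⟨_, hU⟩, TwistLib.isInvertible_congr i.symm
      (ParaFLib.isInvertible_restrict U.ι CurvLib.isInvertible_structureModule)⟩
  -- the cokernel has small support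
  obtain ⟨PQ, hPQd, hPQ⟩ : ∃ P : Polynomial ℚ, P.degree < (e : WithBot ℕ) ∧
      ShStab.IsHilbPoly K Y L (cokernel β) P := by
    haveI := hGc.1
    have hQc : Coh.IsCoh (cokernel β) := QCohLib.isCoh_cokernel β hGc.1 hMc
    refine HilbPolyLib.exists_isHilbPoly (k := K) hLi hQc ?_
    by_contra hge
    rw [not_lt] at hge
    obtain ⟨s, hs, hes⟩ : ∃ s : ℕ, topologicalKrullDim (CohB1.support (cokernel β)) = (s : WithBot ℕ∞) ∧ e ≤ s := by
      have hle := (topologicalKrullDim_subspace_le Y (CohB1.support (cokernel β))).trans hdle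
      cases hv : topologicalKrullDim (CohB1.support (cokernel β)) with
      | bot => rw [hv] at hge; exact absurd hge (not_le.2 (WithBot.bot_lt_coe _))
      | coe a =>
        cases a with
        | top => rw [hv] at hle; exact absurd hle (not_le.2 (WithBot.coe_lt_coe.2 (ENat.coe_lt_top _)))
        | coe n => exact ⟨n, rfl, by rw [hv] at hge; exact_mod_cast hge⟩
    obtain ⟨x, -, hxT, hxd, -⟩ := HilbPolyLib.exists_top_component (QCohLib.isClosed_support _ hQc.2) hs
    have h2 : (2 : WithBot ℕ∞) ≤ ringKrullDim (Y.presheaf.stalk x) := by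
      by_contra hx2
      exact DevissLib.notMem_support_cokernel β x (hbij x hx2).2 hxT
    have h3 := FibDimLib.localDim_eq_closure_add_stalk (k := K) (Y ↘ Spec (CommRingCat.of K)) x
    have h4 : ((s + 2 : ℕ) : WithBot ℕ∞) ≤ ((e + 1 : ℕ) : WithBot ℕ∞) := by
      refine le_trans ?_ ((h3.symm.le.trans (FibDimLib.localDim_le x)).trans hdle)
      rw [hxd, Nat.cast_add]
      exact add_le_add le_rfl h2
    have h5 : s + 2 ≤ e + 1 := by exact_mod_cast h4
    omega
  have hPM := HilbPolyLib.isHilbPoly_add hLi (S := ShortComplex.mk β (cokernel.π β) (cokernel.condition β))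
    { exact := ShortComplex.exact_cokernel β, mono_f := inferInstanceAs (Mono β)
      epi_g := inferInstanceAs (Epi (cokernel.π β)) } hGc hMc (QCohLib.isCoh_cokernel β hGc.1 hMc) hG hPQ
  have hcl := class_mul_top hLi hM e hdle ε h₀ hdeg hPM
  rw [Polynomial.coeff_add, Polynomial.coeff_sub, Polynomial.coeff_eq_zero_of_degree_lt hPQd, add_zero,
    Polynomial.coeff_C] at hcl
  have hne : ((e : ℚ) + 1) * P₀.coeff (e + 1) ≠ 0 := mul_ne_zero (by positivity) hlead
  rcases Nat.eq_zero_or_pos e with he | he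
  · -- curves
    subst he
    have hd1 : topologicalKrullDim Y = 1 := by rw [hd]; rfl
    obtain ⟨x, -, hx⟩ := (isClosed_univ (X := Y)).exists_closed_singleton Set.univ_nonempty
    haveI := HurwitzLib.dvr_stalk_closed (k := K) hd1 hx
    obtain ⟨I, ⟨iI⟩, hI, hId⟩ := GenusZeroLib.exists_idealMod_iso (k := K) hx hd1
    have hres : (letI : Algebra K (Y.residueField x) := Curv2.resAlgebra K Y x;
        Module.finrank K (Y.residueField x)) = 1 := by
      letI : Algebra K (Y.residueField x) := Curv2.resAlgebra K Y x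
      haveI := HurwitzLib.finite_residueField (k := K) hx
      exact ((LinearEquiv.ofBijective (Algebra.linearMap K (Y.residueField x))
        IsAlgClosed.algebraMap_bijective_of_isIntegral).finrank_eq).symm.trans (Module.finrank_self K)
    rw [hres, Nat.cast_one, Curv2.deg] at hId
    obtain ⟨PI, hPI⟩ := HilbPolyLib.exists_isHilbPoly' (k := K) hLi (CurvLib.isCoh_of_isInvertible hI)
    have heu : ∀ (F : Y.Modules) (P : Polynomial ℚ), ShStab.IsHilbPoly K Y L F P →
        P.coeff 0 = (Curv2.euler K Y F : ℚ) := fun F P hP => by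
      have h := hP 0
      rw [HilbPolyLib.euler_twist] at h
      rw [Polynomial.coeff_zero_eq_eval_zero]
      refine (h.symm.trans ?_).trans rfl |>.symm |>.symm
      exact congrArg _ (CurvLib.euler_congr (HilbPolyLib.unitLeft _))
    have hclI := class_mul_top hLi hI 0 hdle ε h₀ hdeg hPI
    rw [heu _ _ hPI, heu _ _ h₀] at hclI
    push_cast at hId
    have hδ : (Curv2.euler K Y I : ℚ) - (Curv2.euler K Y (Coh.structureModule Y) : ℚ) = -1 := by
      have : (Curv2.euler K Y I : ℚ) - 1 * (Curv2.euler K Y (Coh.structureModule Y) : ℚ) = -1 := by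
        exact_mod_cast hId
      linarith
    rw [hδ] at hclI
    rw [if_pos rfl] at hcl
    have ha : (ε (PicGrp.cls _ hM)).toAdd = (ℓ : ℤ) * (ε (PicGrp.cls I hI)).toAdd := by
      have : ((ε (PicGrp.cls _ hM)).toAdd : ℚ) = (ℓ : ℚ) * ((ε (PicGrp.cls I hI)).toAdd : ℚ) := by
        refine mul_right_cancel₀ hne ?_
        rw [mul_assoc (ℓ : ℚ), hclI, hcl]
        ring
      exact_mod_cast this
    have hpw : PicGrp.cls _ hM ^ 1 = PicGrp.cls I hI ^ ℓ := by
      refine ε.injective (Multiplicative.toAdd.injective ?_)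
      rw [pow_one, map_pow, toAdd_pow, ha, nsmul_eq_mul]
    obtain ⟨i⟩ := nonempty_iso_pow hM hI hpw
    obtain ⟨q, hq⟩ : ∃ q : I ⟶ Coh.structureModule Y, Mono q :=
      ⟨iI.hom ≫ (CurvLib.idealSeq _).f,
        @mono_comp _ _ _ _ _ iI.hom inferInstance _ (CurvLib.idealSeq_shortExact (GenusZeroLib.ptIdeal hx)).mono_f⟩
    obtain ⟨f, hf⟩ := exists_mono_pow hI q ℓ
    exact ⟨β ≫ ((HilbPolyLib.unitLeft (RefHull.ddual G)).symm ≪≫ i).hom ≫ f, inferInstance⟩
  · rw [if_neg he.ne', sub_zero, sub_self, mul_zero, mul_eq_zero] at hcl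
    have ha := Int.cast_eq_zero.1 (hcl.resolve_right hne)
    have hone : PicGrp.cls _ hM ^ 1 = PicGrp.cls L hLi ^ 0 := by
      rw [pow_one, pow_zero]
      exact ε.injective (Multiplicative.toAdd.injective (by rw [map_one, toAdd_one]; exact ha))
    obtain ⟨i⟩ := nonempty_iso_pow hM hLi hone
    exact ⟨β ≫ ((HilbPolyLib.unitLeft (RefHull.ddual G)).symm ≪≫ i).hom, inferInstance⟩

end PicZHilbLib

end
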